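import Cfsg.Agent.Lib.Spor.OmegaEightThree.D.Pair
import Cfsg.Agent.Lib.Lie.PSpFourThreeFull.PartOne

/-!
An involution centralising two independent conjugates of the central element of a three-local subgroup of
`PSp(4,3)` shape: its centraliser is the product of two quaternion factors and a monomial part.
-/

set_option autoImplicit false
set_option linter.unusedSectionVars false
set_option linter.style.haveILetI false
set_option maxHeartbeats 1600000
set_option maxRecDepth 100000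

namespace Cfsg.Agent.Spor.OmegaEightThree.D

open Cfsg.Agent.Lie.PSpFourThreeAmalgam
open Cfsg.Agent.Lie.PSpFourThreeFull (exists_conf)

/-- The elements of exponent four centralising an involution and a three-element. -/
def R {L : Type*} [Group L] (t x : L) : Set L := {g | g * t = t * g ∧ g * x = x * g ∧ g ^ 4 = 1}

theorem mem_R {L : Type*} [Group L] {t x g : L} : g ∈ R t x ↔ g * t = t * g ∧ g * x = x * g ∧ g ^ 4 = 1 :=
  Iff.rfl

theorem comm_conj_iff {G : Type*} [Group G] (e : G) {x y : G} :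
    e * x * e⁻¹ * (e * y * e⁻¹) = e * y * e⁻¹ * (e * x * e⁻¹) ↔ x * y = y * x :=
  Commute.conj_iff e

theorem comm_of_zpowers {G : Type*} [Group G] {g x y : G} (h : g * x = x * g)
    (hy : y ∈ Subgroup.zpowers x) : g * y = y * g := by
  obtain ⟨k, rfl⟩ := Subgroup.mem_zpowers_iff.1 hy
  exact ((show Commute g x from h).zpow_right k).eq

theorem moved_lines : (∃ i, act i ((1, 1, 0) : V3) ≠ (1, 1, 0)) ∧ ∃ i, act i ((0, 0, 1) : V3) ≠ (0, 0, 1) := by
  decide +kernel

theorem plane_targets : ¬((0 : V3) = (1, 1, 0) ∨ (0 : V3) = (0, 0, 1) ∨ (0 : V3) = (1, 1, 1) ∨ (0 : V3) = (2, 2, 1)) := by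
  decide

theorem three_nonzero : ∀ k : ZMod 3, k ≠ 0 → k = 1 ∨ k = -1 := by decide

section Frame

variable {G : Type*} [Group G] {M : Amal G} [Finite G] (F : Frame M)

/-- A vector with centraliser in the first local subgroup is not conjugate to the central element. -/
theorem not_conj_centre {v : V3} (hv : ∀ x : G, x * F.q v = F.q v * x → x ∈ M.A₁) (hmove : ∃ i, act i v ≠ v)
    {b g : G} (hb : Subgroup.centralizer ({b} : Set G) = M.A₂) (hg : g * F.q v * g⁻¹ = b) : False := by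
  obtain ⟨i, hi⟩ := hmove
  obtain ⟨y, hy, hact⟩ := F.real i
  have hmap : (Subgroup.centralizer ({F.q v} : Set G)).map (MulAut.conj g).toMonoidHom = M.A₂ := by
    rw [← hb, Subgroup.map_equiv_eq_comap_symm']
    ext x
    simp only [Subgroup.mem_comap, Subgroup.mem_centralizer_singleton_iff, MulEquiv.coe_toMonoidHom,
      MulAut.conj_symm_apply]
    rw [← comm_conj_iff g, hg]
    group
  have hc : Nat.card (Subgroup.centralizer ({F.q v} : Set G)) = 648 := by
    rw [← Subgroup.card_map_of_injective (f := (MulAut.conj g).toMonoidHom) (MulEquiv.injective _), hmap, M.card_A₂]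
  have heq := Subgroup.eq_of_le_of_card_ge (H := Subgroup.centralizer ({F.q v} : Set G)) (K := M.A₁)
    (fun x hx => hv x (Subgroup.mem_centralizer_singleton_iff.1 hx)) (by rw [hc, M.card_A₁])
  rw [← heq, Subgroup.mem_centralizer_singleton_iff] at hy
  refine hi (F.inj _ _ ?_)
  rw [← hact, hy, mul_inv_cancel_right]

/-- An involution of the second local subgroup moves to the transposition by an element centralising `b`. -/
theorem exists_move {b t : G} (hb : Subgroup.centralizer ({b} : Set G) = M.A₂) (ht : t * t = 1) (ht1 : t ≠ 1)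
    (htb : t * b = b * t) : ∃ c ∈ M.A₂, c * t * c⁻¹ = F.t := by
  have htA : t ∈ M.A₂ := hb ▸ Subgroup.mem_centralizer_singleton_iff.2 htb
  have hn : M.pi₂ ⟨t, htA⟩ = neg2 := by
    refine sl_invol _ ?_ fun h => ht1 ?_
    · rw [← map_mul, show (⟨t, htA⟩ : M.A₂) * ⟨t, htA⟩ = 1 from Subtype.ext ht, map_one]
    · have h27 := M.Q₂_pow (M.pi₂_eq_one.1 h)
      rwa [show (27 : ℕ) = 2 * 13 + 1 from rfl, pow_succ, pow_mul, pow_two, ht, one_pow, one_mul] at h27
  have hFi : F.t⁻¹ = F.t := inv_eq_of_mul_eq_one_right F.t_sq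
  have hti : t⁻¹ = t := inv_eq_of_mul_eq_one_right ht
  set x := F.t * t with hx
  have hxQ : x ∈ M.Q₂ := by
    have h := M.pi₂_eq (a := ⟨t, htA⟩) (b := ⟨F.t, F.t_A₂⟩) (hn.trans F.t_neg.symm)
    simpa only [hFi] using h
  have h27 := M.Q₂_pow hxQ
  have hinv : F.t * x * F.t⁻¹ = x⁻¹ := by
    rw [hx, mul_inv_rev, hti, hFi, ← mul_assoc, F.t_sq, one_mul]
  refine ⟨x ^ 14, M.A₂.pow_mem (M.Q₂_le hxQ) 14, ?_⟩
  have ht' : t = F.t * x := by rw [hx, ← mul_assoc, F.t_sq, one_mul]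
  have hp : F.t * x ^ 14 * F.t⁻¹ = (x ^ 14)⁻¹ := by rw [← conj_pow, hinv, inv_pow]
  calc x ^ 14 * t * (x ^ 14)⁻¹ = x ^ 14 * F.t * (x * (x ^ 14)⁻¹) := by rw [ht']; group
    _ = x ^ 14 * F.t * ((x ^ 13)⁻¹) := by rw [pow_succ' x 13]; group
    _ = x ^ 14 * (F.t * (x ^ 13)⁻¹ * F.t⁻¹) * F.t := by group
    _ = x ^ 14 * x ^ 13 * F.t := by rw [← inv_pow, ← conj_pow, ← conj_inv, hinv, inv_inv]
    _ = F.t := by rw [← pow_add, h27, one_mul]

/-- The plane is a Sylow subgroup of the centraliser of the transposition in the second local subgroup. -/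
theorem exists_plane {x : G} (hxA : x ∈ M.A₂) (hxt : x * F.t = F.t * x) (hx : x ^ 3 = 1) :
    ∃ d a c, d ∈ M.A₂ ∧ d * F.t = F.t * d ∧ d * x * d⁻¹ = F.q (a, a, c) := by
  classical
  haveI : Fact (Nat.Prime 3) := ⟨Nat.prime_three⟩
  set K := M.A₂ ⊓ Subgroup.centralizer ({F.t} : Set G)
  have hmK : ∀ g, g ∈ K ↔ g ∈ M.A₂ ∧ g * F.t = F.t * g := fun g => by
    rw [Subgroup.mem_inf, Subgroup.mem_centralizer_singleton_iff]
  let φ : Multiplicative (ZMod 3 × ZMod 3) →* G :=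
    MonoidHom.mk' (fun x => F.q (x.toAdd.1, x.toAdd.1, x.toAdd.2)) fun x y =>
      F.add (x.toAdd.1, x.toAdd.1, x.toAdd.2) (y.toAdd.1, y.toAdd.1, y.toAdd.2)
  have hφ : Function.Injective φ := fun x y h => by
    have h1 := F.inj _ _ h
    simp only [Prod.mk.injEq] at h1
    exact Prod.ext h1.1 h1.2.2
  have hφK : φ.range ≤ K := by
    rintro _ ⟨y, rfl⟩
    exact (hmK _).2 ⟨F.mem_cent_z.1 (F.q_comm _ _), F.plane_comm_t _ _⟩
  have hP : Nat.card (φ.range.subgroupOf K) = 9 := by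
    rw [Nat.card_congr (Subgroup.subgroupOfEquivOfLe hφK).toEquiv,
      ← Nat.card_congr (MonoidHom.ofInjective hφ).toEquiv, Nat.card_congr Multiplicative.toAdd, Nat.card_prod,
      Nat.card_zmod]
  have hK : Nat.card K ∣ 72 := by
    let π := M.pi₂.comp (Subgroup.inclusion (inf_le_left : K ≤ M.A₂))
    have h1 := π.ker.card_mul_index
    rw [Subgroup.index_ker] at h1
    have h2 : π.ker.map K.subtype ≤ M.Z₂ := by
      rintro _ ⟨k, hk, rfl⟩
      refine M.neg_fixed F.t_A₂ F.t_neg (M.pi₂_eq_one.1 hk) ?_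
      show F.t * (k : G) * F.t⁻¹ * (k : G)⁻¹ ∈ M.Z₂
      rw [← ((hmK _).1 k.2).2, mul_inv_cancel_right, mul_inv_cancel]
      exact M.Z₂.one_mem
    have h2' := Subgroup.card_dvd_of_le h2
    rw [Subgroup.card_map_of_injective K.subtype_injective, M.card_Z₂] at h2'
    rw [← h1]
    exact mul_dvd_mul h2' (Amal.card_SL23 ▸ Subgroup.card_subgroup_dvd_card _)
  have hP3 : IsPGroup 3 (φ.range.subgroupOf K) := IsPGroup.of_card (n := 2) hP
  have hi : ¬ 3 ∣ (φ.range.subgroupOf K).index := fun h => by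
    have h1 := (φ.range.subgroupOf K).card_mul_index
    rw [hP] at h1
    have h2 : 27 ∣ 72 := ((mul_dvd_mul_left 9 h).trans (dvd_of_eq h1)).trans hK
    norm_num at h2
  let P : Sylow 3 K := hP3.toSylow hi
  let xK : K := ⟨x, (hmK _).2 ⟨hxA, hxt⟩⟩
  obtain ⟨Q, hQ⟩ := (show IsPGroup 3 (Subgroup.zpowers xK) from fun g => ⟨1, by
    obtain ⟨k, hk⟩ := Subgroup.mem_zpowers_iff.1 g.2
    refine Subtype.ext ?_
    rw [SubgroupClass.coe_pow, ← hk, pow_one, ← zpow_natCast, ← zpow_mul, mul_comm, zpow_mul, zpow_natCast,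
      show xK ^ 3 = 1 from Subtype.ext hx, one_zpow]
    rfl⟩).exists_le_sylow
  obtain ⟨d, hd⟩ := MulAction.exists_smul_eq K Q P
  have h1 : d * xK * d⁻¹ ∈ (P : Subgroup K) := by
    rw [← hd, Sylow.coe_subgroup_smul]
    exact ⟨xK, hQ (Subgroup.mem_zpowers _), rfl⟩
  obtain ⟨y, hy⟩ := Subgroup.mem_subgroupOf.1 h1
  exact ⟨d, _, _, ((hmK _).1 d.2).1, ((hmK _).1 d.2).2, hy.symm⟩

end Frame

/-- The centraliser of an involution `t` centralising `a` and a second conjugate `w` of `a` in `J`: the factors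
`R t a` and `R t w` commute, meet in `t`, and with the elements preserving `⟨a, w⟩` exhaust it. -/
theorem cent_invol {L : Type*} [Group L] [Finite L]
    (a : L) (ha : orderOf a = 3) (C : Subgroup L) (hC : C = Subgroup.centralizer ({a} : Set L))
    (hR : Cfsg.IsExtraspecial 3 (Cfsg.pCore 3 C)) (hRcard : Nat.card (Cfsg.pCore 3 C) = 27)
    (hRexp : ∀ r ∈ Cfsg.pCore 3 C, r ^ 3 = 1)
    (e : C ⧸ Cfsg.pCore 3 C ≃* Matrix.SpecialLinearGroup (Fin 2) (ZMod 3))
    (J : Subgroup L) (hJC : J ≤ C) (hJcomm : IsMulCommutative J) (hJexp : ∀ j ∈ J, j ^ 3 = 1)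
    (hJcard : Nat.card J = 27)
    (hJsig : ∀ K : Subgroup L, (Nat.card K).Coprime 3 → (∀ j ∈ J, K.map (MulAut.conj j).toMonoidHom = K) → K = ⊥)
    (hn : ∀ g : L, g * a * g⁻¹ ≠ a⁻¹) (hidx : ¬ ∃ N : Subgroup L, N.Normal ∧ N.index = 3)
    {t : L} (ht : t * t = 1) (ht1 : t ≠ 1) (hta : t * a = a * t)
    {w : L} (hwJ : w ∈ J) (htw : t * w = w * t) (hw : w ∉ Subgroup.zpowers a)
    (hwc : ∃ g : L, g * w * g⁻¹ = a ∨ g * w * g⁻¹ = a⁻¹) :
    (∀ g ∈ R t a, ∀ h ∈ R t w, g * h = h * g) ∧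
    (∀ g, g * t = t * g → ∃ r ∈ R t a, ∃ r' ∈ R t w, ∃ k, g = r * r' * k ∧ k * t = t * k ∧
      ∀ x ∈ Subgroup.zpowers a ⊔ Subgroup.zpowers w, k * x * k⁻¹ ∈ Subgroup.zpowers a ⊔ Subgroup.zpowers w) ∧
    R t a ∩ R t w = {1, t} := by
  classical
  haveI : Fact (Nat.Prime 3) := ⟨Nat.prime_three⟩
  obtain ⟨T, hTa⟩ := exists_conf a ha C hC hR hRcard hRexp e J hJC hJcomm hJexp hJcard hJsig
  have hcinv : Subgroup.centralizer ({a⁻¹} : Set L) = Subgroup.centralizer ({a} : Set L) := by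
    ext x
    rw [Subgroup.mem_centralizer_singleton_iff, Subgroup.mem_centralizer_singleton_iff]
    exact ⟨fun h => by simpa using (show Commute x a⁻¹ from h).inv_right.eq,
      fun h => (show Commute x a from h).inv_right.eq⟩
  have hn' : ¬ ∃ g : L, g * T.a * g⁻¹ = T.a⁻¹ := by
    rintro ⟨g, hg⟩
    rcases hTa with h | h <;> rw [h] at hg
    · exact hn g hg
    · rw [← conj_inv, inv_inj] at hg
      exact hn g hg
  have hrange : T.φ.range = C := by
    rw [T.range_eq, hC]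
    change Subgroup.centralizer ({T.a} : Set L) = _
    rcases hTa with h | h <;> rw [h]
    exact hcinv
  have hR' : Cfsg.IsExtraspecial 3 (Cfsg.pCore 3 T.φ.range) := by
    revert hR
    rw [← hrange]
    exact id
  have h4 : T.wdata.orb.card = 4 := by
    rcases T.wdata.card_cases with ⟨-, h1 | h4⟩ | ⟨h, -⟩
    · exact absurd (T.index_three hn' h1) hidx
    · exact h4
    · exact absurd (T.neg_mem_orb_iff.1 h) hn'
  obtain ⟨M, -, hA₂⟩ := T.exists_amal hn' h4 hR'
  rw [hrange, hC] at hA₂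
  obtain ⟨F⟩ := exists_frame M
  obtain ⟨s, hs⟩ := exists_twoQ F
  -- the centre
  have haA : a ∈ M.A₂ := hA₂ ▸ Subgroup.mem_centralizer_singleton_iff.2 rfl
  have hcom : ∀ g ∈ M.A₂, g * a = a * g := fun g hg => Subgroup.mem_centralizer_singleton_iff.1 (hA₂ ▸ hg)
  have ha3 : a ^ 3 = 1 := ha ▸ pow_orderOf_eq_one a
  have haQ : a ∈ M.Q₂ := by
    have hcases := sl_central (M.pi₂ ⟨a, haA⟩) fun y => by
      obtain ⟨g, rfl⟩ := M.pi₂_surj y
      rw [← map_mul, ← map_mul]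
      exact congrArg _ (Subtype.ext (hcom g g.2).symm)
    rcases hcases with h | h
    · exact M.pi₂_eq_one.1 h
    · have h3 : M.pi₂ ⟨a, haA⟩ ^ 3 = 1 := by
        rw [← map_pow, show (⟨a, haA⟩ : M.A₂) ^ 3 = 1 from Subtype.ext ha3, map_one]
      rw [h] at h3
      exact absurd h3 (by decide +kernel)
  have haz : Subgroup.zpowers a = Subgroup.zpowers (F.q (1, 1, 1)) := by
    rw [← F.hZ]
    refine Subgroup.eq_of_le_of_card_ge (Subgroup.zpowers_le.2 ?_) (by rw [Nat.card_zpowers, ha, M.card_Z₂])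
    rw [M.hZ₂]
    exact ⟨haQ, Subgroup.mem_centralizer_iff.2 fun y hy => hcom y (M.Q₂_le hy)⟩
  -- move the involution
  obtain ⟨c, hcA, hc⟩ := exists_move F hA₂.symm ht ht1 hta
  have hca : c * a * c⁻¹ = a := mul_inv_eq_iff_eq_mul.2 (hcom c hcA)
  have hwa : w * a = a * w := by
    have h1 : w ∈ C := hJC hwJ
    rw [hC] at h1
    exact Subgroup.mem_centralizer_singleton_iff.1 h1
  have hw1A : c * w * c⁻¹ ∈ M.A₂ :=
    M.A₂.mul_mem (M.A₂.mul_mem hcA (hA₂ ▸ Subgroup.mem_centralizer_singleton_iff.2 hwa)) (M.A₂.inv_mem hcA)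
  have hw1t : c * w * c⁻¹ * F.t = F.t * (c * w * c⁻¹) := by
    rw [← hc, comm_conj_iff]
    exact htw.symm
  obtain ⟨d, x, y, hdA, hdt, hd⟩ := exists_plane F hw1A hw1t (by
    rw [conj_pow, hJexp w hwJ, mul_one, mul_inv_cancel])
  set f := d * c with hf
  have hfa : f * a * f⁻¹ = a := mul_inv_eq_iff_eq_mul.2 (hcom f (M.A₂.mul_mem hdA hcA))
  have hft : f * t * f⁻¹ = F.t := by
    rw [hf, show d * c * t * (d * c)⁻¹ = d * (c * t * c⁻¹) * d⁻¹ by group, hc]
    exact mul_inv_eq_iff_eq_mul.2 hdt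
  have hfw : f * w * f⁻¹ = F.q (x, x, y) := by
    rw [hf, ← hd]
    group
  -- the line of the image
  have hne : ((x, x, y) : V3) ≠ 0 := fun h => by
    rw [h, F.q_zero, conj_eq_one_iff] at hfw
    exact hw (hfw ▸ one_mem _)
  have hwz : Subgroup.zpowers (F.q (x, x, y)) = Subgroup.zpowers (F.q (2, 2, 1)) := by
    obtain ⟨k, hk⟩ := plane_lines x y hne
    have hk0 : k ≠ 0 := by
      rintro rfl
      rw [zero_smul] at hk
      exact absurd hk plane_targets
    have hqk : F.q (k • ((x, x, y) : V3)) = F.q (x, x, y) ∨ F.q (k • ((x, x, y) : V3)) = (F.q (x, x, y))⁻¹ := by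
      rcases three_nonzero k hk0 with rfl | rfl
      · exact Or.inl (by rw [one_smul])
      · exact Or.inr (by rw [neg_smul, one_smul, F.q_neg])
    have hz : Subgroup.zpowers (F.q (x, x, y)) = Subgroup.zpowers (F.q (k • ((x, x, y) : V3))) := by
      rcases hqk with h | h <;> rw [h]
      rw [Subgroup.zpowers_inv]
    obtain ⟨g, hg⟩ := hwc
    have hconj : ∀ v : V3, k • ((x, x, y) : V3) = v → ∃ b h : L,
        Subgroup.centralizer ({b} : Set L) = M.A₂ ∧ h * F.q v * h⁻¹ = b := by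
      intro v hv
      refine ⟨_, g * f⁻¹, ?_, rfl⟩
      have e1 : g * f⁻¹ * F.q (x, x, y) * (g * f⁻¹)⁻¹ = g * w * g⁻¹ := by rw [← hfw]; group
      rw [hA₂, ← hv]
      rcases hqk with h | h <;> rw [h]
      · rw [e1]
        rcases hg with hg | hg <;> rw [hg]
        exact hcinv
      · rw [← conj_inv, e1]
        rcases hg with hg | hg <;> rw [hg]
        · exact hcinv
        · rw [inv_inv]
    rcases hk with h | h | h | h
    · obtain ⟨b, g', hb, hg'⟩ := hconj _ h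
      exact (not_conj_centre F (fun z hz => F.cent_f hz) moved_lines.1 hb hg').elim
    · obtain ⟨b, g', hb, hg'⟩ := hconj _ h
      exact (not_conj_centre F (fun z hz => F.cent_d hz) moved_lines.2 hb hg').elim
    · refine absurd ?_ hw
      rw [h, ← haz, ← hfw] at hz
      obtain ⟨n, hn⟩ := Subgroup.mem_zpowers_iff.1 (hz ▸ Subgroup.mem_zpowers (f * w * f⁻¹))
      refine Subgroup.mem_zpowers_iff.2 ⟨n, ?_⟩
      have h2 : f⁻¹ * a ^ n * f = w := by rw [hn]; group
      rw [← h2, mul_assoc, ← ((show Commute f a from hcom f (M.A₂.mul_mem hdA hcA)).zpow_right n).eq,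
        inv_mul_cancel_left]
    · rw [hz, h]
  have hwz' : Subgroup.zpowers (f * w * f⁻¹) = Subgroup.zpowers (F.q (2, 2, 1)) := by rw [hfw, hwz]
  have haz' : Subgroup.zpowers (f * a * f⁻¹) = Subgroup.zpowers (F.q (1, 1, 1)) := by rw [hfa, haz]
  -- the transport
  have himg : ∀ (u v : L), Subgroup.zpowers (f * u * f⁻¹) = Subgroup.zpowers v → ∀ g ∈ R t u,
      f * g * f⁻¹ * F.t = F.t * (f * g * f⁻¹) ∧ f * g * f⁻¹ * v = v * (f * g * f⁻¹) ∧ (f * g * f⁻¹) ^ 4 = 1 := by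
    rintro u v huv g ⟨h1, h2, h3⟩
    refine ⟨?_, comm_of_zpowers ((comm_conj_iff f).2 h2) (huv ▸ Subgroup.mem_zpowers v), ?_⟩
    · rw [← hft, comm_conj_iff]
      exact h1
    · rw [conj_pow, h3, mul_one, mul_inv_cancel]
  have hpre : ∀ (u v : L), Subgroup.zpowers (f * u * f⁻¹) = Subgroup.zpowers v → ∀ g,
      g * F.t = F.t * g → g * v = v * g → g ^ 4 = 1 → f⁻¹ * g * f ∈ R t u := by
    intro u v huv g h1 h2 h3
    refine ⟨(comm_conj_iff f).1 ?_, (comm_conj_iff f).1 ?_, ?_⟩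
    · rw [show f * (f⁻¹ * g * f) * f⁻¹ = g by group, hft]
      exact h1
    · rw [show f * (f⁻¹ * g * f) * f⁻¹ = g by group]
      exact comm_of_zpowers h2 (huv ▸ Subgroup.mem_zpowers _)
    · rw [show f⁻¹ * g * f = f⁻¹ * g * (f⁻¹)⁻¹ by group, conj_pow, h3, mul_one, mul_inv_cancel]
  refine ⟨?_, ?_, ?_⟩
  · intro g hg h hh
    obtain ⟨g1, g2, g3⟩ := himg _ _ haz' g hg
    obtain ⟨h1, h2, h3⟩ := himg _ _ hwz' h hh
    exact (comm_conj_iff f).1 (hs.comm _ _ g1 g2 g3 h1 h2 h3)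
  · intro g hg
    obtain ⟨r, r', p, q, j, he, r1, r2, r3, r1', r2', r3'⟩ := hs.split (f * g * f⁻¹) (by
      rw [← hft, comm_conj_iff]
      exact hg)
    refine ⟨f⁻¹ * r * f, hpre _ _ haz' r r1 r2 r3, f⁻¹ * r' * f, hpre _ _ hwz' r' r1' r2' r3',
      f⁻¹ * (F.q (p, p, q) * s ^ j) * f, ?_, ?_, ?_⟩
    · calc g = f⁻¹ * (f * g * f⁻¹) * f := by group
        _ = _ := by rw [he]; group
    · refine (comm_conj_iff f).1 ?_
      rw [show f * (f⁻¹ * (F.q (p, p, q) * s ^ j) * f) * f⁻¹ = F.q (p, p, q) * s ^ j by group, hft]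
      exact ((show Commute (F.q (p, p, q)) F.t from F.plane_comm_t p q).mul_left
        ((show Commute s F.t from hs.hs_t).pow_left j)).eq
    · set S := Subgroup.zpowers a ⊔ Subgroup.zpowers w
      set S' := Subgroup.zpowers (F.q (1, 1, 1)) ⊔ Subgroup.zpowers (F.q (2, 2, 1))
      have hmap : ∀ g : L, S.map (MulAut.conj g).toMonoidHom =
          Subgroup.zpowers (g * a * g⁻¹) ⊔ Subgroup.zpowers (g * w * g⁻¹) := fun g => by
        rw [Subgroup.map_sup, MonoidHom.map_zpowers, MonoidHom.map_zpowers]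
        rfl
      have hSf : S.map (MulAut.conj f).toMonoidHom = S' := by rw [hmap, haz', hwz']
      have hn1 : F.q (p, p, q) ∈ Subgroup.normalizer (S' : Set L) := by
        rw [Subgroup.mem_normalizer_iff_map_conj_eq, Subgroup.map_sup, MonoidHom.map_zpowers, MonoidHom.map_zpowers]
        congr 1 <;> congr 1 <;> exact mul_inv_eq_iff_eq_mul.2 (F.q_comm _ _)
      have hn2 : s ∈ Subgroup.normalizer (S' : Set L) := by
        rw [Subgroup.mem_normalizer_iff_map_conj_eq, Subgroup.map_sup, MonoidHom.map_zpowers, MonoidHom.map_zpowers,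
          sup_comm]
        congr 1 <;> congr 1
        · exact (hs.hs_q _).trans (congrArg F.q mS_z.1)
        · exact (hs.hs_q _).trans (congrArg F.q mS_z.2)
      have hn3 := Subgroup.mem_normalizer_iff.1 (Subgroup.mul_mem _ hn1 (Subgroup.pow_mem _ hn2 j))
      intro z hz
      obtain ⟨z', hz', hzz⟩ : (F.q (p, p, q) * s ^ j) * (f * z * f⁻¹) * (F.q (p, p, q) * s ^ j)⁻¹ ∈
          S.map (MulAut.conj f).toMonoidHom := by
        rw [hSf]
        refine (hn3 _).1 ?_
        rw [← hSf]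
        exact ⟨z, hz, rfl⟩
      simp only [MulEquiv.coe_toMonoidHom, MulAut.conj_apply] at hzz
      have h1 : f⁻¹ * (F.q (p, p, q) * s ^ j) * f * z * (f⁻¹ * (F.q (p, p, q) * s ^ j) * f)⁻¹ = z' := by
        calc _ = f⁻¹ * ((F.q (p, p, q) * s ^ j) * (f * z * f⁻¹) * (F.q (p, p, q) * s ^ j)⁻¹) * f := by group
          _ = z' := by rw [← hzz]; group
      exact h1.symm ▸ hz'
  · refine Set.Subset.antisymm (fun g ⟨hga, hgw⟩ => ?_) ?_
    · obtain ⟨g1, g2, g3⟩ := himg _ _ haz' g hga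
      obtain ⟨-, h2, -⟩ := himg _ _ hwz' g hgw
      rcases hs.meet _ g1 g2 g3 h2 with h | h
      · exact Or.inl (conj_eq_one_iff.1 h)
      · refine Or.inr ?_
        rw [← hft] at h
        exact mul_left_cancel (mul_right_cancel h)
    · have h41 : t ^ 4 = 1 := by rw [show 4 = 2 * 2 from rfl, pow_mul, pow_two t, ht, one_pow]
      rintro g (rfl | rfl)
      · exact ⟨⟨by simp, by simp, one_pow _⟩, ⟨by simp, by simp, one_pow _⟩⟩
      · exact ⟨⟨rfl, hta, h41⟩, ⟨rfl, htw, h41⟩⟩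

end Cfsg.Agent.Spor.OmegaEightThree.D
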