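import Cfsg.Agent.Lib.Lie.PSpFourThreeAmalgam.ModelT

/-!
The two quaternion factors in the centraliser of the transposition, with their defining conditions.
-/

set_option autoImplicit false
set_option linter.unusedSectionVars false
set_option linter.style.haveILetI false
set_option maxHeartbeats 4000000
set_option maxRecDepth 100000

namespace Cfsg.Agent.Spor.OmegaEightThree.D

open Cfsg.Agent.Lie.PSpFourThreeAmalgam
open scoped Pointwise

theorem minus_two : ((2, 2, 1) : V3) + -(1, 1, 1) = (1, 1, 0) := by decide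

variable {G : Type*} [Group G] {M : Amal G} [Finite G] (F : Frame M)

/-- The facts about the two factors. -/
structure TwoQ (F : Frame M) (s : G) : Prop where
  comm : ∀ g h, g * F.t = F.t * g → g * F.q (1, 1, 1) = F.q (1, 1, 1) * g → g ^ 4 = 1 →
    h * F.t = F.t * h → h * F.q (2, 2, 1) = F.q (2, 2, 1) * h → h ^ 4 = 1 → g * h = h * g
  split : ∀ g, g * F.t = F.t * g → ∃ r r', ∃ a c : ZMod 3, ∃ j : ℕ, g = r * r' * (F.q (a, a, c) * s ^ j) ∧
    r * F.t = F.t * r ∧ r * F.q (1, 1, 1) = F.q (1, 1, 1) * r ∧ r ^ 4 = 1 ∧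
    r' * F.t = F.t * r' ∧ r' * F.q (2, 2, 1) = F.q (2, 2, 1) * r' ∧ r' ^ 4 = 1
  meet : ∀ g, g * F.t = F.t * g → g * F.q (1, 1, 1) = F.q (1, 1, 1) * g → g ^ 4 = 1 →
    g * F.q (2, 2, 1) = F.q (2, 2, 1) * g → g = 1 ∨ g = F.t
  hs_t : s * F.t = F.t * s
  hs_q : ∀ v, s * F.q v * s⁻¹ = F.q (mS v)

theorem exists_twoQ : ∃ s, TwoQ F s := by
  classical
  haveI : Fact (Nat.Prime 3) := ⟨Nat.prime_three⟩
  obtain ⟨s, hsA, hs2, hst, hsq⟩ := F.exists_sigma
  obtain ⟨O, hOt, hOn, hOco, htO, hOf, hOd, hdec, hsO, hOE⟩ := F.exists_core hsA hs2 hst hsq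
  have hsinv : s⁻¹ = s := inv_eq_of_mul_eq_one_right hs2
  have hs_s : ∀ x : G, s * (s * x * s⁻¹) * s⁻¹ = x := fun x => by
    rw [hsinv, ← mul_assoc, ← mul_assoc, hs2, one_mul, mul_assoc, hs2, mul_one]
  set z := F.q (1, 1, 1) with hz
  set z2 := F.q (2, 2, 1) with hz2
  have hzt : z * F.t = F.t * z := F.plane_comm_t 1 1
  have hz2t : z2 * F.t = F.t * z2 := F.plane_comm_t 2 1
  have hsz : s * z * s⁻¹ = z2 := by rw [hz, hsq, mS_z.2]
  have hsz2 : s * z2 * s⁻¹ = z := by rw [hz2, hsq, mS_z.1]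
  have hst' : s * F.t * s⁻¹ = F.t := mul_inv_eq_iff_eq_mul.2 hst
  have hOs : ∀ o ∈ O, s * o * s⁻¹ ∈ O := hOn s hst
  set R := O ⊓ Subgroup.centralizer ({z} : Set G) with hR
  set R' := O ⊓ Subgroup.centralizer ({z2} : Set G) with hR'
  have hmR : ∀ g, g ∈ R ↔ g ∈ O ∧ g * z = z * g := fun g =>
    ⟨fun h => ⟨h.1, Subgroup.mem_centralizer_singleton_iff.1 h.2⟩,
      fun h => ⟨h.1, Subgroup.mem_centralizer_singleton_iff.2 h.2⟩⟩
  have hmR' : ∀ g, g ∈ R' ↔ g ∈ O ∧ g * z2 = z2 * g := fun g =>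
    ⟨fun h => ⟨h.1, Subgroup.mem_centralizer_singleton_iff.1 h.2⟩,
      fun h => ⟨h.1, Subgroup.mem_centralizer_singleton_iff.2 h.2⟩⟩
  have htR : F.t ∈ R := (hmR _).2 ⟨htO, hzt.symm⟩
  have htR' : F.t ∈ R' := (hmR' _).2 ⟨htO, hz2t.symm⟩
  have hsR : ∀ r ∈ R, s * r * s⁻¹ ∈ R' := fun r hr => by
    obtain ⟨h1, h2⟩ := (hmR r).1 hr
    refine (hmR' _).2 ⟨hOs r h1, ?_⟩
    have := ((Commute.conj_iff s).2 h2).eq
    rwa [hsz] at this
  have hsR' : ∀ r ∈ R', s * r * s⁻¹ ∈ R := fun r hr => by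
    obtain ⟨h1, h2⟩ := (hmR' r).1 hr
    refine (hmR _).2 ⟨hOs r h1, ?_⟩
    have := ((Commute.conj_iff s).2 h2).eq
    rwa [hsz2] at this
  -- the projection to the special linear group
  have hRA : ∀ r ∈ R, r ∈ M.A₂ := fun r hr => F.mem_cent_z.1 ((hmR r).1 hr).2
  -- orders
  have hO3 : ∀ g ∈ O, g ^ 81 = 1 → g = 1 := fun g hg h => by
    rw [← orderOf_eq_one_iff]
    refine Nat.eq_one_of_dvd_coprimes (Nat.Coprime.pow_right 4 hOco) ?_ (orderOf_dvd_of_pow_eq_one h)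
    exact (Subgroup.orderOf_mk g hg).symm ▸ orderOf_dvd_natCard _
  have hRQ : ∀ r ∈ R, r ∈ M.Q₂ → r = 1 := fun r hr h => hO3 r hr.1 (by
    rw [show (81 : ℕ) = 27 * 3 from rfl, pow_mul, M.Q₂_pow h, one_pow])
  let π : R →* SL23 := M.pi₂.comp (Subgroup.inclusion (fun r hr => hRA r hr : R ≤ M.A₂))
  have hπinj : Function.Injective π := (injective_iff_map_eq_one π).2 fun r hr =>
    Subtype.ext (hRQ r r.2 (M.pi₂_eq_one.1 hr))
  have hzpow : ∀ (k : ℕ), F.q (1, 1, 1) ^ k ∈ M.Q₂ := fun k => M.Q₂.pow_mem (M.Z₂_le F.z_mem) k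
  have hlift : ∀ x : SL23, x ^ 4 = 1 → ∃ r : R, π r = x := by
    intro x hx
    obtain ⟨g, rfl⟩ := M.pi₂_surj x
    -- move the lift into the centraliser of the transposition
    set u := (g : G) * F.t * (g : G)⁻¹ * F.t⁻¹ with hu
    have huA : u ∈ M.A₂ := M.A₂.mul_mem (M.A₂.mul_mem (M.A₂.mul_mem g.2 F.t_A₂) (M.A₂.inv_mem g.2)) (M.A₂.inv_mem F.t_A₂)
    have huQ : u ∈ M.Q₂ := by
      refine (M.pi₂_eq_one (a := ⟨u, huA⟩)).1 ?_
      rw [show (⟨u, huA⟩ : M.A₂) = g * ⟨F.t, F.t_A₂⟩ * g⁻¹ * ⟨F.t, F.t_A₂⟩⁻¹ from rfl, map_mul, map_mul, map_mul,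
        map_inv, map_inv, F.t_neg, ← sl_neg.2.2.1, mul_inv_cancel_right, mul_inv_cancel]
    have hti : F.t⁻¹ = F.t := inv_eq_of_mul_eq_one_right F.t_sq
    have hut : F.t * u * F.t⁻¹ = u⁻¹ := by
      rw [hu]
      simp only [mul_inv_rev, inv_inv, hti]
      simp only [mul_assoc, F.t_sq, mul_one]
    have hu3 : u ^ 3 = 1 := by
      have h1 : u ^ 3 ∈ M.Z₂ := by
        haveI : (M.Z₂.subgroupOf M.Q₂).Normal := ⟨fun y hy b => by
          show (b : G) * (y : G) * (b : G)⁻¹ ∈ M.Z₂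
          rw [M.Z₂_conj (M.Q₂_le b.2) (x := (y : G)) hy]
          exact hy⟩
        have h2 := M.neg_fixed F.t_A₂ F.t_neg (M.Q₂.pow_mem huQ 3)
        by_contra hno
        have hc9 : Nat.card (M.Q₂ ⧸ M.Z₂.subgroupOf M.Q₂) = 9 := by
          have h3 := (M.Z₂.subgroupOf M.Q₂).card_mul_index
          rw [Nat.card_congr (Subgroup.subgroupOfEquivOfLe M.Z₂_le).toEquiv, M.card_Z₂, M.c₂] at h3
          show (M.Z₂.subgroupOf M.Q₂).index = 9
          omega
        -- the quotient of the second core is elementary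
        obtain ⟨y, hy⟩ : ∃ y : M.Q₂ ⧸ M.Z₂.subgroupOf M.Q₂, y = ((⟨u, huQ⟩ : M.Q₂) : M.Q₂ ⧸ M.Z₂.subgroupOf M.Q₂) :=
          ⟨_, rfl⟩
        have hy9 : y ^ 9 = 1 := hc9 ▸ pow_card_eq_one'
        by_cases hyz : Subgroup.zpowers y = ⊤
        · -- a cyclic quotient by the centre makes the second core abelian
          refine hno ?_
          have hcom : ∀ a ∈ M.Q₂, ∀ b ∈ M.Q₂, a * b = b * a := by
            intro a ha b hb
            have hzc : ∀ c ∈ M.Z₂, ∀ d ∈ M.Q₂, d * c = c * d := fun c hc d hd => by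
              rw [M.hZ₂] at hc
              exact Subgroup.mem_centralizer_iff.1 hc.2 d hd
            have hrep : ∀ a ∈ M.Q₂, ∃ k : ℕ, ∃ c ∈ M.Z₂, a = u ^ k * c := by
              intro a ha
              have hmem : ((⟨a, ha⟩ : M.Q₂) : M.Q₂ ⧸ M.Z₂.subgroupOf M.Q₂) ∈ Subgroup.zpowers y := hyz ▸ Subgroup.mem_top _
              obtain ⟨k, hk⟩ := mem_powers_iff_mem_zpowers.2 hmem
              simp only [hy, ← QuotientGroup.mk_pow] at hk
              have h4 := (QuotientGroup.eq).1 hk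
              exact ⟨k, _, Subgroup.mem_subgroupOf.1 h4, by simp⟩
            obtain ⟨k, c, hc, rfl⟩ := hrep a ha
            obtain ⟨l, d, hd, rfl⟩ := hrep b hb
            have e1 : Commute (u ^ k * c) (u ^ l * d) := by
              refine Commute.mul_left ?_ ?_
              · exact ((Commute.refl u).pow_pow k l).mul_right (hzc d hd _ (M.Q₂.pow_mem huQ k))
              · exact Commute.symm (hzc c hc _ (M.Q₂.mul_mem (M.Q₂.pow_mem huQ l) (M.Z₂_le hd)))
            exact e1.eq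
          rw [M.hZ₂]
          exact ⟨M.Q₂.pow_mem huQ 3, Subgroup.mem_centralizer_iff.2 fun d hd => hcom d hd _ (M.Q₂.pow_mem huQ 3)⟩
        · refine hno ?_
          have h5 : Nat.card (Subgroup.zpowers y) ≠ 9 := fun h => hyz (Subgroup.eq_top_of_card_eq _ (by rw [h, hc9]))
          rw [Nat.card_zpowers] at h5
          obtain ⟨k, hk2, hk⟩ := (Nat.dvd_prime_pow Nat.prime_three).1
            (show orderOf y ∣ 3 ^ 2 from orderOf_dvd_of_pow_eq_one hy9)
          have hy3 : y ^ 3 = 1 := by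
            refine orderOf_dvd_iff_pow_eq_one.1 ?_
            rw [hk] at h5 ⊢
            rcases (by omega : k = 0 ∨ k = 1 ∨ k = 2) with rfl | rfl | rfl
            · exact Dvd.intro 3 (by norm_num)
            · exact dvd_refl 3
            · exact absurd rfl h5
          rw [hy, ← QuotientGroup.mk_pow, QuotientGroup.eq_one_iff] at hy3
          exact Subgroup.mem_subgroupOf.1 hy3
      have h2 : F.t * u ^ 3 * F.t⁻¹ = u ^ 3 := M.Z₂_conj F.t_A₂ h1
      rw [← conj_pow, hut, inv_pow, inv_eq_iff_mul_eq_one] at h2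
      have h3 := M.Q₂_pow (M.Q₂.pow_mem huQ 3)
      rwa [show (27 : ℕ) = 2 * 13 + 1 from rfl, pow_succ, pow_mul, pow_two, h2, one_pow, one_mul] at h3
    set g' := u * (g : G) with hg'
    have hg't : g' * F.t = F.t * g' := by
      refine mul_inv_eq_iff_eq_mul.1 ?_
      have h1 : F.t * u⁻¹ = u * F.t := by
        have h1 := mul_inv_eq_iff_eq_mul.1 hut
        calc F.t * u⁻¹ = F.t * (F.t * u * F.t⁻¹) := by rw [hut]
          _ = u * F.t⁻¹ := by rw [← mul_assoc, ← mul_assoc, F.t_sq, one_mul]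
          _ = u * F.t := by rw [hti]
      calc g' * F.t * g'⁻¹ = u * ((g : G) * F.t * (g : G)⁻¹ * F.t⁻¹) * (F.t * u⁻¹) := by rw [hg']; group
        _ = u * u * (u * F.t) := by rw [← hu, h1]
        _ = u ^ 3 * F.t := by rw [pow_succ, pow_two, mul_assoc (u * u)]
        _ = F.t := by rw [hu3, one_mul]
    have hg'A : g' ∈ M.A₂ := M.A₂.mul_mem huA g.2
    have hπg' : M.pi₂ ⟨g', hg'A⟩ = M.pi₂ g := by
      rw [show (⟨g', hg'A⟩ : M.A₂) = ⟨u, huA⟩ * g from rfl, map_mul, M.pi₂_eq_one.2 huQ, one_mul]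
    -- take the part of order prime to three
    have h4 : g' ^ 4 ∈ M.Z₂ := by
      refine M.neg_fixed F.t_A₂ F.t_neg ?_ ?_
      · refine (M.pi₂_eq_one (a := ⟨g', hg'A⟩ ^ 4)).1 ?_
        rw [map_pow, hπg', hx]
      · rw [((show Commute F.t g' from hg't.symm).pow_right 4).eq, mul_inv_cancel_right, mul_inv_cancel]
        exact M.Z₂.one_mem
    have h36 : (g' ^ 9) ^ 4 = 1 := by
      rw [← pow_mul, show 9 * 4 = 4 * 3 * 3 from rfl, pow_mul, pow_mul, M.Z₂_three h4, one_pow]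
    have hg'9z : g' ^ 9 * z = z * g' ^ 9 :=
      ((show Commute g' z from F.mem_cent_z.2 hg'A).pow_left 9).eq
    have hg'9t : g' ^ 9 * F.t = F.t * g' ^ 9 := ((show Commute g' F.t from hg't).pow_left 9).eq
    have hin : g' ^ 9 ∈ O := by
      obtain ⟨o, ho, a, c, j, hj, he⟩ := hdec _ hg'9t
      interval_cases j
      · rw [pow_zero, mul_one] at he
        have h5 : (o * F.q (a, a, c)) ^ 4 = 1 := he ▸ h36
        have h6 : F.q (a, a, c) ^ 4 ∈ O := by
          have hgen : ∀ n : ℕ, (o * F.q (a, a, c)) ^ n * (F.q (a, a, c) ^ n)⁻¹ ∈ O := by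
            intro n
            induction n with
            | zero => simp [O.one_mem]
            | succ n ih =>
              rw [pow_succ, pow_succ, show (o * F.q (a, a, c)) ^ n * (o * F.q (a, a, c)) * (F.q (a, a, c) ^ n * F.q (a, a, c))⁻¹ =
                ((o * F.q (a, a, c)) ^ n * (F.q (a, a, c) ^ n)⁻¹) * (F.q (a, a, c) ^ n * o * (F.q (a, a, c) ^ n)⁻¹) by group]
              exact O.mul_mem ih (hOn _ ((show Commute (F.q (a, a, c)) F.t from F.plane_comm_t a c).pow_left n).eq _ ho)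
          have := hgen 4
          rw [h5, one_mul] at this
          exact O.inv_mem_iff.1 this
        rw [pow_succ, F.q_cube, one_mul] at h6
        rw [he, hOE a c h6, mul_one]
        exact ho
      · exfalso
        rw [pow_one] at he
        -- the involution would fix the central element modulo the core
        have h5 : o * F.q (a, a, c) * s * z * (o * F.q (a, a, c) * s)⁻¹ = z := by
          rw [← he]; exact mul_inv_eq_iff_eq_mul.2 hg'9z
        rw [show o * F.q (a, a, c) * s * z * (o * F.q (a, a, c) * s)⁻¹ =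
            o * (F.q (a, a, c) * (s * z * s⁻¹) * (F.q (a, a, c))⁻¹) * o⁻¹ by group, hsz, hz2,
          F.q_comm, mul_inv_cancel_right] at h5
        have h6 : o * F.q (2, 2, 1) * o⁻¹ * (F.q (2, 2, 1))⁻¹ ∈ O := by
          rw [mul_assoc, mul_assoc, ← mul_assoc (F.q (2, 2, 1))]
          exact O.mul_mem ho (hOn _ hz2t _ (O.inv_mem ho))
        rw [h5, hz, ← F.q_neg, ← F.add] at h6
        rw [plane_minus.1] at h6
        exact plane_minus.2 (F.q_eq_one.1 (hOE 2 0 h6))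
    refine ⟨⟨g' ^ 9, (hmR _).2 ⟨hin, hg'9z⟩⟩, ?_⟩
    show M.pi₂ ⟨g' ^ 9, _⟩ = _
    rw [show (⟨g' ^ 9, hRA _ ((hmR _).2 ⟨hin, hg'9z⟩)⟩ : M.A₂) = ⟨g', hg'A⟩ ^ 9 from Subtype.ext (by simp), map_pow, hπg',
      show (9 : ℕ) = 4 * 2 + 1 from rfl, pow_succ, pow_mul, hx, one_pow, one_mul]
  have hπimg : ∀ x, (∃ r : R, π r = x) ↔ x ^ 4 = 1 := by
    intro x
    refine ⟨?_, hlift x⟩
    rintro ⟨r, rfl⟩
    have hd : orderOf (r : G) ∣ Nat.card O := (Subgroup.orderOf_mk (r : G) r.2.1).symm ▸ orderOf_dvd_natCard _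
    have h1 : orderOf (π r) ∣ orderOf r := orderOf_map_dvd π r
    rw [← Subgroup.orderOf_coe] at h1
    have h2 : orderOf (π r) ∣ 4 * 3 := orderOf_dvd_of_pow_eq_one (sl_twelve _)
    exact orderOf_dvd_iff_pow_eq_one.1 (((hOco.coprime_dvd_left (h1.trans hd))).dvd_of_dvd_mul_right h2)
  have hRc : Nat.card R = 8 := by
    have h1 : Nat.card R = Nat.card {x : SL23 // x ^ 4 = 1} :=
      Nat.card_congr (Equiv.ofBijective (fun r => ⟨π r, (hπimg _).1 ⟨r, rfl⟩⟩)
        ⟨fun a b h => hπinj (congrArg Subtype.val h), fun x => by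
          obtain ⟨r, hr⟩ := hlift x.1 x.2
          exact ⟨r, Subtype.ext hr⟩⟩)
    rw [h1, Nat.card_eq_fintype_card, Fintype.card_subtype]
    exact sl_four_card
  have hR'c : Nat.card R' = 8 := by
    rw [← hRc]
    exact Nat.card_congr ⟨fun r => ⟨s * r * s⁻¹, hsR' r r.2⟩, fun r => ⟨s * r * s⁻¹, hsR r r.2⟩,
      fun r => Subtype.ext (hs_s r), fun r => Subtype.ext (hs_s r)⟩
  have hinf : ∀ g ∈ R, g ∈ R' → g = 1 ∨ g = F.t := by
    intro g hg hg'
    refine hOf g hg.1 ?_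
    rw [show ((1, 1, 0) : V3) = _ from z_facts]
    exact F.comm_lin ((hmR g).1 hg).2 ((hmR' g).1 hg').2 2 1
  have hzR : ∀ r ∈ R', z * r * z⁻¹ ∈ R' := by
    intro r hr
    obtain ⟨h1, h2⟩ := (hmR' r).1 hr
    refine (hmR' _).2 ⟨hOn z hzt r h1, ?_⟩
    have h3 := ((Commute.conj_iff z).2 h2).eq
    rwa [show z * z2 * z⁻¹ = z2 by rw [hz, hz2, F.q_comm, mul_inv_cancel_right]] at h3
  have hzfix : ∀ r ∈ R', z * r * z⁻¹ = r → r = 1 ∨ r = F.t := fun r hr h =>
    hinf r ((hmR r).2 ⟨hr.1, (mul_inv_eq_iff_eq_mul.1 h).symm⟩) hr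
  have hzmove : ∀ r ∈ R', r⁻¹ * (z * r * z⁻¹) = F.t → False := by
    intro r _ h
    have h1 : z * r * z⁻¹ = r * F.t := inv_mul_eq_iff_eq_mul.1 h
    have hc : Commute z F.t := hzt
    have h2 : z * z * r * (z * z)⁻¹ = r * F.t * F.t := by
      rw [show z * z * r * (z * z)⁻¹ = z * (z * r * z⁻¹) * z⁻¹ by group, h1,
        show z * (r * F.t) * z⁻¹ = (z * r * z⁻¹) * (z * F.t * z⁻¹) by group, h1, hc.eq, mul_inv_cancel_right]
    have h3 : z * z * z * r * (z * z * z)⁻¹ = r * F.t := by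
      rw [show z * z * z * r * (z * z * z)⁻¹ = z * (z * z * r * (z * z)⁻¹) * z⁻¹ by group, h2, mul_assoc r, F.t_sq,
        mul_one, h1]
    rw [← pow_two, ← pow_succ, hz, F.q_cube, one_mul, inv_one, mul_one, left_eq_mul] at h3
    exact F.t_ne h3
  have hmin : ∀ S : Subgroup G, S ≤ R' → F.t ∈ S → (∀ x ∈ S, z * x * z⁻¹ ∈ S) →
      (∃ x ∈ S, x ≠ 1 ∧ x ≠ F.t) → R' ≤ S := by
    intro S hS htS hzS ⟨x, hx, hx1, hxt⟩
    refine (Subgroup.eq_of_le_of_card_ge hS ?_).ge
    rw [hR'c]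
    obtain ⟨k, hk3, hk⟩ := (Nat.dvd_prime_pow Nat.prime_two).1
      (show Nat.card S ∣ 2 ^ 3 by
        rw [show (2 : ℕ) ^ 3 = Nat.card R' by rw [hR'c]; norm_num]
        exact Subgroup.card_dvd_of_le hS)
    have h5 : 5 ≤ Nat.card S := by
      haveI : Fintype S := Fintype.ofFinite _
      have hsub : ({1, F.t, x, z * x * z⁻¹, x * F.t} : Finset G) ⊆ (Finset.univ : Finset S).map ⟨Subtype.val, Subtype.val_injective⟩ := by
        intro y hy
        simp only [Finset.mem_insert, Finset.mem_singleton] at hy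
        simp only [Finset.mem_map, Finset.mem_univ, true_and, Function.Embedding.coeFn_mk]
        rcases hy with rfl | rfl | rfl | rfl | rfl
        exacts [⟨⟨_, S.one_mem⟩, rfl⟩, ⟨⟨_, htS⟩, rfl⟩, ⟨⟨_, hx⟩, rfl⟩, ⟨⟨_, hzS x hx⟩, rfl⟩,
          ⟨⟨_, S.mul_mem hx htS⟩, rfl⟩]
      have h1 := Finset.card_le_card hsub
      rw [Finset.card_map, Finset.card_univ, ← Nat.card_eq_fintype_card] at h1
      refine le_trans ?_ h1
      have n1 : z * x * z⁻¹ ≠ 1 := fun h => hx1 (conj_eq_one_iff.1 h)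
      have n2 : z * x * z⁻¹ ≠ F.t := fun h => hxt (by
        have hc : Commute z F.t := hzt
        calc x = z⁻¹ * (z * x * z⁻¹) * z := by group
          _ = F.t := by rw [h, mul_assoc, ← hc.eq, inv_mul_cancel_left])
      have n3 : z * x * z⁻¹ ≠ x := fun h => (hzfix x (hS hx) h).elim hx1 hxt
      have n4 : z * x * z⁻¹ ≠ x * F.t := fun h => hzmove x (hS hx) (by rw [h, inv_mul_cancel_left])
      have n5 : x * F.t ≠ 1 := fun h => hxt (by
        rw [eq_inv_of_mul_eq_one_left h, inv_eq_of_mul_eq_one_right F.t_sq])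
      have n6 : x * F.t ≠ F.t := fun h => hx1 (mul_eq_right.1 h)
      have n7 : x * F.t ≠ x := fun h => F.t_ne (mul_eq_left.1 h)
      rw [Finset.card_insert_of_notMem, Finset.card_insert_of_notMem, Finset.card_insert_of_notMem,
        Finset.card_insert_of_notMem, Finset.card_singleton] <;>
        simp only [Finset.mem_insert, Finset.mem_singleton, not_or]
      · exact n4
      · exact ⟨fun h => n3 h.symm, fun h => n7 h.symm⟩
      · exact ⟨fun h => hxt h.symm, fun h => n2 h.symm, fun h => n6 h.symm⟩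
      · exact ⟨fun h => F.t_ne h.symm, fun h => hx1 h.symm, fun h => n1 h.symm, fun h => n5 h.symm⟩
    rw [hk] at h5 ⊢
    rcases (by omega : k = 0 ∨ k = 1 ∨ k = 2 ∨ k = 3) with rfl | rfl | rfl | rfl
    all_goals omega
  -- the product
  let φ : Multiplicative (ZMod 3 × ZMod 3) →* G :=
    MonoidHom.mk' (fun x => F.q (x.toAdd.1, x.toAdd.1, x.toAdd.2)) fun x y =>
      F.add (x.toAdd.1, x.toAdd.1, x.toAdd.2) (y.toAdd.1, y.toAdd.1, y.toAdd.2)
  have hφ : Function.Injective φ := fun x y h => by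
    have h1 := F.inj _ _ h
    simp only [Prod.mk.injEq] at h1
    exact Prod.ext h1.1 h1.2.2
  have hmE : ∀ x ∈ φ.range, ∃ a c, x = F.q (a, a, c) := fun x ⟨y, hy⟩ => ⟨_, _, hy.symm⟩
  have hOeq : (O : Set G) = (R : Set G) * (R' : Set G) := by
    refine Cfsg.Agent.S1287.result 3 φ.range O R R' ⟨⟨⟨?_⟩⟩, ?_⟩ ?_ ?_ ?_ inf_le_left inf_le_left ?_ ?_ ?_ ?_
    · rintro ⟨x, hx⟩ ⟨y, hy⟩
      obtain ⟨a, c, rfl⟩ := hmE x hx
      obtain ⟨a', c', rfl⟩ := hmE y hy
      exact Subtype.ext (F.q_comm _ _)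
    · intro x hx
      obtain ⟨a, c, rfl⟩ := hmE x hx
      exact F.q_cube _
    · rw [← Nat.card_congr (MonoidHom.ofInjective hφ).toEquiv, Nat.card_congr Multiplicative.toAdd, Nat.card_prod,
        Nat.card_zmod]
      norm_num
    · exact (Nat.prime_three.coprime_iff_not_dvd).1 hOco.symm
    · intro x hx
      obtain ⟨a, c, rfl⟩ := hmE x hx
      exact mem_normalizer_of_le (hOn _ (F.plane_comm_t a c))
    · intro x hx
      obtain ⟨a, c, rfl⟩ := hmE x hx
      refine mem_normalizer_of_le fun r hr => (hmR _).2 ⟨hOn _ (F.plane_comm_t a c) r hr.1, ?_⟩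
      have h3 := ((Commute.conj_iff (F.q (a, a, c))).2 ((hmR r).1 hr).2).eq
      rwa [show F.q (a, a, c) * z * (F.q (a, a, c))⁻¹ = z by rw [hz, F.q_comm, mul_inv_cancel_right]] at h3
    · intro x hx
      obtain ⟨a, c, rfl⟩ := hmE x hx
      refine mem_normalizer_of_le fun r hr => (hmR' _).2 ⟨hOn _ (F.plane_comm_t a c) r hr.1, ?_⟩
      have h3 := ((Commute.conj_iff (F.q (a, a, c))).2 ((hmR' r).1 hr).2).eq
      rwa [show F.q (a, a, c) * z2 * (F.q (a, a, c))⁻¹ = z2 by rw [hz2, F.q_comm, mul_inv_cancel_right]] at h3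
    · rintro g ⟨hgO, hgc⟩
      have h1 : g * F.q (1, 1, 0) = F.q (1, 1, 0) * g :=
        (Subgroup.mem_centralizer_iff.1 hgc (F.q (1, 1, 0)) ⟨Multiplicative.ofAdd (1, 0), rfl⟩).symm
      rcases hOf g hgO h1 with rfl | rfl
      · exact Subgroup.one_mem _
      · exact Subgroup.le_normalizer htR
    · intro x hx hx1
      obtain ⟨a, c, rfl⟩ := hmE x hx
      have hne : ((a, a, c) : V3) ≠ 0 := fun h => hx1 ((congrArg F.q h).trans F.q_zero)
      refine Set.Subset.antisymm (fun g hg => ?_) ?_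
      · obtain ⟨k, hk⟩ := plane_lines a c hne
        have hgC : g * F.q (a, a, c) = F.q (a, a, c) * g := Subgroup.mem_centralizer_singleton_iff.1 hg.2
        have hgk := F.comm_conj hgC k
        have htC : F.t * F.q (a, a, c) = F.q (a, a, c) * F.t := (F.plane_comm_t a c).symm
        have hone : ∀ x ∈ R, x * F.q (a, a, c) = F.q (a, a, c) * x → x ∈ ((R ⊓ Subgroup.centralizer ({F.q (a, a, c)} : Set G) : Subgroup G) : Set G) *
            ((R' ⊓ Subgroup.centralizer ({F.q (a, a, c)} : Set G) : Subgroup G) : Set G) :=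
          fun x hx hxc => ⟨x, ⟨hx, Subgroup.mem_centralizer_singleton_iff.2 hxc⟩, 1, Subgroup.one_mem _, mul_one x⟩
        rcases hk with h | h | h | h <;> rw [h] at hgk
        · rcases hOf g hg.1 hgk with rfl | rfl
          · exact hone 1 R.one_mem hgC
          · exact hone _ htR htC
        · rcases hOd g hg.1 hgk with rfl | rfl
          · exact hone 1 R.one_mem hgC
          · exact hone _ htR htC
        · exact hone g ((hmR g).2 ⟨hg.1, hgk⟩) hgC
        · exact ⟨1, Subgroup.one_mem _, g, ⟨(hmR' g).2 ⟨hg.1, hgk⟩, hg.2⟩, one_mul g⟩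
      · rintro _ ⟨x, hx, y, hy, rfl⟩
        exact ⟨O.mul_mem hx.1.1 hy.1.1, Subgroup.mul_mem _ hx.2 hy.2⟩
  have hO32 : Nat.card O = 2 ^ 5 := by
    have h1 := Cfsg.Agent.Solv.card_mul_set_mul_card_inf R R'
    have h2 : Nat.card (R ⊓ R' : Subgroup G) = 2 := by
      have h3 : (R ⊓ R') = Subgroup.zpowers F.t := by
        refine le_antisymm (fun g hg => ?_) (Subgroup.zpowers_le.2 ⟨htR, htR'⟩)
        rcases hinf g hg.1 hg.2 with rfl | rfl
        exacts [one_mem _, Subgroup.mem_zpowers _]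
      rw [h3, Nat.card_zpowers]
      exact orderOf_eq_prime (by rw [pow_two, F.t_sq]) F.t_ne
    rw [h2, hRc, hR'c, ← hOeq, SetLike.coe_sort_coe] at h1
    omega
  have hnormR' : ∀ r' ∈ R', ∀ r ∈ R, r' * r * r'⁻¹ ∈ R := by
    haveI : Fact (Nat.Prime 2) := ⟨Nat.prime_two⟩
    haveI : Group.IsNilpotent O := (IsPGroup.of_card hO32).isNilpotent
    have hRO : R ≤ O := inf_le_left
    have hlt : R.subgroupOf O < ⊤ := lt_top_iff_ne_top.2 fun h => by
      have h1 := Subgroup.card_le_of_le (Subgroup.subgroupOf_eq_top.1 h)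
      rw [hO32, hRc] at h1
      norm_num at h1
    obtain ⟨x, hx, hxR⟩ := SetLike.exists_of_lt ((Group.normalizerCondition_of_isNilpotent (G := O)) _ hlt)
    have hxn : ∀ r ∈ R, (x : G) * r * (x : G)⁻¹ ∈ R := fun r hr => Subgroup.mem_subgroupOf.1
      ((Subgroup.mem_normalizer_iff.1 hx ⟨r, hRO hr⟩).1 (Subgroup.mem_subgroupOf.2 hr))
    let S : Subgroup G := R' ⊓ Subgroup.normalizer (R : Set G)
    obtain ⟨a, ha, b, hb, hab⟩ : (x : G) ∈ (R : Set G) * (R' : Set G) := hOeq ▸ x.2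
    change a * b = (x : G) at hab
    have hbn : b ∈ Subgroup.normalizer (R : Set G) := by
      refine mem_normalizer_of_le fun r hr => ?_
      have h1 := hxn r hr
      rw [← hab, show a * b * r * (a * b)⁻¹ = a * (b * r * b⁻¹) * a⁻¹ by group] at h1
      have h2 := R.mul_mem (R.mul_mem (R.inv_mem ha) h1) ha
      rwa [show a⁻¹ * (a * (b * r * b⁻¹) * a⁻¹) * a = b * r * b⁻¹ by group] at h2
    have hzn : z ∈ Subgroup.normalizer (R : Set G) := mem_normalizer_of_le fun r hr => by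
      rw [← ((hmR r).1 hr).2, mul_inv_cancel_right]
      exact hr
    have hS := hmin S inf_le_left ⟨htR', Subgroup.le_normalizer htR⟩
      (fun y hy => ⟨hzR y hy.1, Subgroup.mul_mem _ (Subgroup.mul_mem _ hzn hy.2) (Subgroup.inv_mem _ hzn)⟩)
      ⟨b, ⟨hb, hbn⟩, fun h => hxR (Subgroup.mem_subgroupOf.2 (by rw [← hab, h, mul_one]; exact ha)),
        fun h => hxR (Subgroup.mem_subgroupOf.2 (by rw [← hab, h]; exact R.mul_mem ha htR))⟩
    exact fun r' hr' r hr => (Subgroup.mem_normalizer_iff.1 (hS hr').2 r).1 hr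
  have hnormR : ∀ r ∈ R, ∀ r' ∈ R', r * r' * r⁻¹ ∈ R' := by
    intro r hr r' hr'
    have h1 := hsR _ (hnormR' _ (hsR r hr) _ (hsR' r' hr'))
    rwa [show s * (s * r * s⁻¹ * (s * r' * s⁻¹) * (s * r * s⁻¹)⁻¹) * s⁻¹ = s * (s * (r * r' * r⁻¹) * s⁻¹) * s⁻¹ by
      group, hs_s] at h1
  have hcomm : ∀ r ∈ R, ∀ r' ∈ R', r * r' = r' * r := by
    intro r hr
    let S : Subgroup G := R' ⊓ Subgroup.centralizer ({r} : Set G)
    have hc2 : ∀ y ∈ R', r * y * r⁻¹ * y⁻¹ = 1 ∨ r * y * r⁻¹ * y⁻¹ = F.t := fun y hy => by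
      refine hinf _ ?_ (R'.mul_mem (hnormR r hr y hy) (R'.inv_mem hy))
      rw [mul_assoc, mul_assoc, ← mul_assoc y]
      exact R.mul_mem hr (hnormR' y hy _ (R.inv_mem hr))
    obtain ⟨b, hb, hb1, hbt⟩ : ∃ b ∈ R', b ≠ 1 ∧ b ≠ F.t := by
      by_contra hno
      push Not at hno
      have hle : R' ≤ Subgroup.zpowers F.t := fun b hb => by
        by_cases h : b = 1
        · rw [h]; exact one_mem _
        · rw [hno b hb h]; exact Subgroup.mem_zpowers _
      have h1 := Subgroup.card_le_of_le hle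
      rw [hR'c, Nat.card_zpowers, orderOf_eq_prime (p := 2) (by rw [pow_two, F.t_sq]) F.t_ne] at h1
      omega
    set x := b⁻¹ * (z * b * z⁻¹) with hx
    have hxc : x * r = r * x := by
      have hrz : Commute r z := ((hmR r).1 hr).2
      have htz : Commute z F.t := hzt
      have hrt : ∀ g ∈ R', r * g * r⁻¹ * g⁻¹ = 1 → Commute r g := fun g _ h => by
        exact mul_inv_eq_iff_eq_mul.1 (mul_inv_eq_one.1 h)
      have e1 : r * (z * b * z⁻¹) * r⁻¹ = (r * b * r⁻¹ * b⁻¹) * (z * b * z⁻¹) := by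
        have e2 : r * (z * b * z⁻¹) * r⁻¹ = z * (r * b * r⁻¹ * b⁻¹) * z⁻¹ * (z * b * z⁻¹) := by
          calc r * (z * b * z⁻¹) * r⁻¹ = (r * z) * b * (r * z)⁻¹ := by group
            _ = (z * r) * b * (z * r)⁻¹ := by rw [hrz.eq]
            _ = _ := by group
        rw [e2]
        rcases hc2 b hb with h | h <;> rw [h]
        · simp
        · rw [htz.eq, mul_inv_cancel_right]
      have e3 : r * x * r⁻¹ = x := by
        calc r * x * r⁻¹ = (r * b * r⁻¹)⁻¹ * (r * (z * b * z⁻¹) * r⁻¹) := by rw [hx]; group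
          _ = x := by rw [e1, hx]; group
      exact (mul_inv_eq_iff_eq_mul.1 e3).symm
    have hxR : x ∈ R' := R'.mul_mem (R'.inv_mem hb) (hzR b hb)
    have hS := hmin S inf_le_left ⟨htR', Subgroup.mem_centralizer_singleton_iff.2 (hOt r hr.1).symm⟩
      (fun y hy => ⟨hzR y hy.1, Subgroup.mem_centralizer_singleton_iff.2 (by
        have h1 := ((Commute.conj_iff z).2 (Subgroup.mem_centralizer_singleton_iff.1 hy.2)).eq
        rwa [show z * r * z⁻¹ = r by rw [← ((hmR r).1 hr).2, mul_inv_cancel_right]] at h1)⟩)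
      ⟨x, ⟨hxR, Subgroup.mem_centralizer_singleton_iff.2 hxc⟩, fun h => by
        have h1 : z * b * z⁻¹ = b := (inv_mul_eq_one.1 h).symm
        exact (hzfix b hb h1).elim hb1 hbt, hzmove b hb⟩
    exact fun r' hr' => (Subgroup.mem_centralizer_singleton_iff.1 (hS hr').2).symm
  -- elements of order dividing four centralising one of the two points
  have hin4 : ∀ g, g * F.t = F.t * g → (g * z = z * g ∨ g * z2 = z2 * g) → g ^ 4 = 1 → g ∈ O := by
    intro g hgt hgc hg4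
    obtain ⟨o, ho, a, c, j, hj, rfl⟩ := hdec g hgt
    interval_cases j
    · rw [pow_zero, mul_one] at hg4 ⊢
      have h6 : F.q (a, a, c) ^ 4 ∈ O := by
        have hgen : ∀ n : ℕ, (o * F.q (a, a, c)) ^ n * (F.q (a, a, c) ^ n)⁻¹ ∈ O := by
          intro n
          induction n with
          | zero => simp [O.one_mem]
          | succ n ih =>
            rw [pow_succ, pow_succ, show (o * F.q (a, a, c)) ^ n * (o * F.q (a, a, c)) * (F.q (a, a, c) ^ n * F.q (a, a, c))⁻¹ =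
              ((o * F.q (a, a, c)) ^ n * (F.q (a, a, c) ^ n)⁻¹) * (F.q (a, a, c) ^ n * o * (F.q (a, a, c) ^ n)⁻¹) by group]
            exact O.mul_mem ih (hOn _ ((show Commute (F.q (a, a, c)) F.t from F.plane_comm_t a c).pow_left n).eq _ ho)
        have := hgen 4
        rw [hg4, one_mul] at this
        exact O.inv_mem_iff.1 this
      rw [pow_succ, F.q_cube, one_mul] at h6
      rw [hOE a c h6, mul_one]
      exact ho
    · exfalso
      rw [pow_one] at hgc
      set x := F.q (a, a, c) with hxdef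
      have hmove : ∀ p q' : G, s * p * s⁻¹ = q' → x * q' * x⁻¹ = q' → (o * x * s) * p = p * (o * x * s) →
          o * q' * o⁻¹ = p := by
        intro p q' h1 h2 h3
        calc o * q' * o⁻¹ = o * (x * (s * p * s⁻¹) * x⁻¹) * o⁻¹ := by rw [h1, h2]
          _ = o * x * s * p * (o * x * s)⁻¹ := by group
          _ = p := by rw [h3, mul_inv_cancel_right]
      have hqf : ∀ v : V3, x * F.q v * x⁻¹ = F.q v := fun v => by
        rw [hxdef, F.q_comm, mul_inv_cancel_right]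
      have hO_of : ∀ v : V3, F.q v * F.t = F.t * F.q v → o * F.q v * o⁻¹ * (F.q v)⁻¹ ∈ O := by
        intro v hv
        rw [mul_assoc, mul_assoc, ← mul_assoc (F.q v)]
        exact O.mul_mem ho (hOn _ hv _ (O.inv_mem ho))
      rcases hgc with h | h
      · have h5 : o * F.q (2, 2, 1) * o⁻¹ = F.q (1, 1, 1) := hmove z z2 hsz (hqf _) h
        have h6 := hO_of _ hz2t
        rw [h5, ← F.q_neg, ← F.add, plane_minus.1] at h6
        exact plane_minus.2 (F.q_eq_one.1 (hOE 2 0 h6))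
      · have h5 : o * F.q (1, 1, 1) * o⁻¹ = F.q (2, 2, 1) := hmove z2 z hsz2 (hqf _) h
        have h6 := hO_of _ hzt
        rw [h5, ← F.q_neg, ← F.add] at h6
        rw [minus_two] at h6
        exact plane_zero.1 (F.q_eq_one.1 (hOE 1 0 h6))
  refine ⟨s, ⟨?_, ?_, ?_, hst, hsq⟩⟩
  · intro g h hgt hgz hg4 hht hhz hh4
    exact hcomm g ((hmR g).2 ⟨hin4 g hgt (Or.inl hgz) hg4, hgz⟩) h ((hmR' h).2 ⟨hin4 h hht (Or.inr hhz) hh4, hhz⟩)
  · intro g hg
    obtain ⟨o, ho, a, c, j, hj, rfl⟩ := hdec g hg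
    obtain ⟨r, hr, r', hr', rfl⟩ : o ∈ (R : Set G) * (R' : Set G) := hOeq ▸ ho
    refine ⟨r, r', a, c, j, by group, hOt r hr.1, ((hmR r).1 hr).2, ?_, hOt r' hr'.1, ((hmR' r').1 hr').2, ?_⟩
    · have h := (hπimg _).1 ⟨⟨r, hr⟩, rfl⟩
      rw [← map_pow] at h
      exact congrArg Subtype.val (hπinj (h.trans (map_one π).symm))
    · have h := (hπimg _).1 ⟨⟨s * r' * s⁻¹, hsR' r' hr'⟩, rfl⟩
      rw [← map_pow] at h
      have h' : (s * r' * s⁻¹) ^ 4 = 1 := congrArg Subtype.val (hπinj (h.trans (map_one π).symm))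
      rw [conj_pow, mul_inv_eq_one] at h'
      exact mul_eq_left.1 h'
  · intro g hgt hgz hg4 hgz2
    exact hinf g ((hmR g).2 ⟨hin4 g hgt (Or.inl hgz) hg4, hgz⟩) ((hmR' g).2 ⟨hin4 g hgt (Or.inl hgz) hg4, hgz2⟩)

end Cfsg.Agent.Spor.OmegaEightThree.D
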